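import Groth.Prelude.Def_CartDual
import Groth.Prelude.Def_CartDual2
import Mathlib.RingTheory.Bialgebra.MonoidAlgebra
import Mathlib.RingTheory.Bialgebra.GroupLike
import Mathlib.RingTheory.HopfAlgebra.MonoidAlgebra
import Mathlib.RingTheory.Coalgebra.GroupLike
import Mathlib.RingTheory.Bialgebra.Convolution
import Mathlib.Data.ZMod.Basic

/-!
# A character of order `p` of a finite commutative group scheme gives a closed immersion of the constant group `ℤ/p`
-/

set_option autoImplicit false
universe u

open CartDual TensorProduct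

namespace K982.HopfSurj

variable {k : Type u} [Field k]

/-- The group algebra of `ℤ/p`. -/
abbrev kZ (k : Type u) [Field k] (p : ℕ) : Type u := MonoidAlgebra k (Multiplicative (ZMod p))

instance finite_kZ (p : ℕ) [NeZero p] : Module.Finite k (kZ k p) :=
  have : Finite (Multiplicative (ZMod p)) := inferInstanceAs (Finite (ZMod p))
  Module.Finite.of_basis (MonoidAlgebra.basis (Multiplicative (ZMod p)) k)

/-- The powers of an element `y` with `y ^ p = 1`, as a homomorphism from `ℤ/p`. -/
def powHom {M : Type*} [Monoid M] (p : ℕ) [NeZero p] (y : M) (hy : y ^ p = 1) : Multiplicative (ZMod p) →* M where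
  toFun a := y ^ (Multiplicative.toAdd a).val
  map_one' := by
    change y ^ (0 : ZMod p).val = 1
    rw [ZMod.val_zero, pow_zero]
  map_mul' a b := by
    change y ^ (Multiplicative.toAdd a + Multiplicative.toAdd b).val = _
    rw [ZMod.val_add, ← pow_add]
    conv_rhs => rw [← Nat.mod_add_div (ZMod.val (Multiplicative.toAdd a) + ZMod.val (Multiplicative.toAdd b)) p, pow_add,
      pow_mul, hy, one_pow, mul_one]

theorem powHom_apply {M : Type*} [Monoid M] (p : ℕ) [NeZero p] (y : M) (hy : y ^ p = 1) (a : Multiplicative (ZMod p)) :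
    powHom p y hy a = y ^ (Multiplicative.toAdd a).val := rfl

theorem powHom_injective {M : Type*} [Monoid M] (p : ℕ) [hp : Fact p.Prime] [NeZero p] (y : M) (hy : y ^ p = 1) (h1 : y ≠ 1) :
    Function.Injective (powHom p y hy) := by
  have ho : orderOf y = p := orderOf_eq_prime hy h1
  intro a b hab
  rw [powHom_apply, powHom_apply] at hab
  have h2 := pow_injOn_Iio_orderOf (x := y) (by rw [ho]; exact ZMod.val_lt _) (by rw [ho]; exact ZMod.val_lt _) hab
  exact Multiplicative.toAdd.injective (ZMod.val_injective p h2)

section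

variable {H : Type u} [CommRing H] [HopfAlgebra k H] [FiniteDimensional k H]

/-- A point of a finite group scheme is a group-like element of the dual. -/
theorem isGroupLike (g : H →ₐ[k] k) : IsGroupLikeElem k (WithConv.toConv g.toLinearMap : D k H) where
  counit_eq_one := by
    change g 1 = 1
    exact map_one g
  comul_eq_tmul_self := by
    apply (ev₂ k H).injective
    apply TensorProduct.ext'
    intro a b
    rw [ev₂_tmul]
    change ev₂ k H (CartDual.comul k H _) (a ⊗ₜ b) = _
    rw [ev₂_comul_tmul]
    exact map_mul g a b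

/-- Restriction of a finite commutative group scheme to a constant subgroup of order `p`. -/
theorem exists_surj (p : ℕ) [hp : Fact p.Prime] [hNe : NeZero p] (g : WithConv (H →ₐ[k] k)) (h1 : g ≠ 1) (hg : g ^ p = 1) :
    ∃ φ : H →ₐc[k] D k (kZ k p), Function.Surjective φ := by
  let y : D k H := WithConv.toConv g.ofConv.toLinearMap
  have hpow : ∀ n : ℕ, y ^ n = WithConv.toConv (g ^ n).ofConv.toLinearMap := fun n ↦ by
    induction n with
    | zero => rw [pow_zero, pow_zero]; rfl
    | succ n ih => rw [pow_succ, pow_succ, ih]; rfl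
  have hy : y ^ p = 1 := by rw [hpow, hg]; rfl
  have hy1 : y ≠ 1 := fun h ↦ h1 (by
    have h2 : (g.ofConv.toLinearMap : H →ₗ[k] k) = ((1 : WithConv (H →ₐ[k] k)).ofConv).toLinearMap :=
      congrArg WithConv.ofConv h
    apply WithConv.ofConv_injective
    exact AlgHom.toLinearMap_injective h2)
  let Y : GroupLike k (D k H) := ⟨y, isGroupLike g.ofConv⟩
  have hY : Y ^ p = 1 := GroupLike.val_injective hy
  have hY1 : Y ≠ 1 := fun h ↦ hy1 (congrArg GroupLike.val h)
  let F : Multiplicative (ZMod p) →* GroupLike k (D k H) := powHom p Y hY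
  have hF : Function.Injective F := powHom_injective p Y hY hY1
  let φ₀ : kZ k p →ₐc[k] D k H := .ofAlgHom (MonoidAlgebra.lift k (D k H) _ ((GroupLike.valMonoidHom k (D k H)).comp F))
    (by ext; simp) (by ext; simp)
  have hli : LinearIndependent k (fun a : Multiplicative (ZMod p) ↦ (F a).val) :=
    (linearIndep_groupLikeVal (R := k) (A := D k H)).comp F hF
  have hinj : Function.Injective φ₀ := by
    rw [linearIndependent_iff_injective_finsuppLinearCombination] at hli
    have e : ∀ x : kZ k p, φ₀ x = Finsupp.linearCombination k (fun a : Multiplicative (ZMod p) ↦ (F a).val)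
        ((MonoidAlgebra.basis (Multiplicative (ZMod p)) k).repr x) := fun x ↦ by
      change MonoidAlgebra.lift k (D k H) _ ((GroupLike.valMonoidHom k (D k H)).comp F) x = _
      rw [MonoidAlgebra.lift_apply]
      rfl
    intro x y hxy
    rw [e, e] at hxy
    exact (MonoidAlgebra.basis (Multiplicative (ZMod p)) k).repr.injective (hli hxy)
  refine ⟨(CartDual.transpose k φ₀).comp (CartDual.eval k H), ?_⟩
  intro ψ
  obtain ⟨θ, hθ⟩ := LinearMap.dualMap_surjective_of_injective (f := (φ₀ : kZ k p →ₗ[k] D k H)) hinj ψ.ofConv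
  obtain ⟨h, hh⟩ := (Module.bijective_dual_eval k H).2 (θ.comp (toDual k H).symm.toLinearMap)
  refine ⟨h, ?_⟩
  apply WithConv.ofConv_injective
  apply LinearMap.ext
  intro a
  have h2 := congrArg (fun t ↦ t ((φ₀ a).ofConv)) hh
  have h3 := congrArg (fun t ↦ t a) hθ
  exact h2.trans h3

end

end K982.HopfSurj
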