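import Groth.Agent.SGA7.K497.Pol
import Groth.Agent.AbDual.K732.KerDual
import Groth.Agent.AbDual.K732.Isog
import Groth.Agent.AbDual.K732.DualField
import Groth.Agent.AbDual.K732.Transp
import Groth.Agent.S3030
import Groth.Agent.SGA7.K751.DSTors
import Groth.Agent.Sga3B.DSAff
import Groth.Agent.Fdesc.GeomConn
import Groth.Agent.SGA3t2b.K982.HopfSurj

/-!
# A point of order `p` of an abelian variety gives a copy of `μ_p` in another abelian variety
-/

set_option autoImplicit false
set_option linter.unusedSectionVars false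
universe u

open CategoryTheory CategoryTheory.Limits MonoidalCategory CartesianMonoidalCategory MonObj GrpObj
  AlgebraicGeometry TensorProduct

namespace K982.MuSub

open CoactBr CartDual Groth.Agent.Books Groth.Agent.Books.AffBridge K497.Pol K982.HopfSurj

variable {k : Type u} [Field k]

/-- The dual Hopf algebra of the group algebra of `ℤ/p`, at the spelling of its commutative ring structure. -/
noncomputable instance instHopfD (k : Type u) [Field k] (p : ℕ) [NeZero p] :
    @HopfAlgebra k (D k (kZ k p)) _ (CommRing.toCommSemiring).toSemiring := CartDual.instHopfAlgebra k (kZ k p)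

/-- The double dual, likewise. -/
noncomputable instance instHopfDD (k : Type u) [Field k] (p : ℕ) [NeZero p] :
    @HopfAlgebra k (D k (D k (kZ k p))) _ (CommRing.toCommSemiring).toSemiring :=
  CartDual.instHopfAlgebra k (D k (kZ k p))

theorem geomConn_id (Y : Scheme.{u}) : GeometricallyConnected (𝟙 Y) := by
  rw [geometricallyConnected_iff, geometrically_iff_of_isClosedUnderIsomorphisms]
  intro K _ y
  have : IsIso (Limits.pullback.snd (𝟙 Y) y) := inferInstance
  exact (Limits.pullback.snd (𝟙 Y) y).homeomorph.symm.surjective.connectedSpace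
    (Limits.pullback.snd (𝟙 Y) y).homeomorph.symm.continuous

/-- The image of an abelian variety is an abelian variety. -/
theorem isAV_of_surj {X Y : Over (Spec (CommRingCat.of k))} [GrpObj Y] [IsProper X.hom]
    [GeometricallyConnected X.hom] (f : X ⟶ Y) [Surjective f.left] [Smooth Y.hom] [IsSeparated Y.hom] :
    IsProper Y.hom ∧ GeometricallyConnected Y.hom ∧ IsCommMonObj Y := by
  have hw : f.left ≫ Y.hom = X.hom := Over.w f
  have h1 : UniversallyClosed (f.left ≫ Y.hom) := by rw [hw]; infer_instance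
  have h2 : UniversallyClosed Y.hom := UniversallyClosed.of_comp_surjective f.left Y.hom
  have h3 : IsProper Y.hom := { }
  have cX : ConnectedSpace X.left :=
    GeometricallyConnected.geometrically_connectedSpace (f := X.hom) (𝟙 _) (𝟙 X.left) X.hom
      (IsPullback.of_id_fst)
  have cY : ConnectedSpace Y.left := f.left.surjective.connectedSpace f.left.continuous
  have h4 : GeometricallyConnected Y.hom := by
    have e1 : η[Y].left ≫ Y.hom = 𝟙 _ := Over.w η[Y]
    have e2 : GeometricallyConnected (η[Y].left ≫ Y.hom) := by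
      rw [e1]
      exact geomConn_id _
    have : Nonempty ↥(𝟙_ (Over (Spec (CommRingCat.of k)))).left :=
      inferInstanceAs (Nonempty (Spec (CommRingCat.of k)))
    exact Groth.Agent.Fdesc.GeomConn.geometricallyConnected_of_hom Y.hom η[Y].left
  have g := K732.AV.geomInt Y
  exact ⟨h3, h4, isCommMonObj_of_isProper_of_geometricallyIntegral Y⟩

theorem isIso_toUnit_sp : IsIso (toUnit (sp k k)) := by
  have h0 : IsIso (Spec.map (CommRingCat.ofHom (algebraMap k k))) := by
    have e2 : CommRingCat.ofHom (algebraMap k k) = 𝟙 (CommRingCat.of k) := rfl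
    rw [e2]
    infer_instance
  have h : IsIso (toUnit (sp k k)).left := by
    have e : (toUnit (sp k k)).left = Spec.map (CommRingCat.ofHom (algebraMap k k)) := by
      have h1 : (toUnit (sp k k)).left ≫ 𝟙 _ = Spec.map (CommRingCat.ofHom (algebraMap k k)) := Over.w (toUnit (sp k k))
      rwa [Category.comp_id] at h1
    rw [e]
    exact h0
  exact (Over.isoMk (asIso (toUnit (sp k k)).left) (Over.w _)).isIso_hom

theorem mono_pt_of_surjective {A B : Type u} [CommRing A] [Algebra k A] [CommRing B] [Algebra k B] (f : A →ₐ[k] B)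
    (hf : Function.Surjective f) : Mono (pt f) := by
  have h1 : (pt f).left = Spec.map (CommRingCat.ofHom (f : A →+* B)) := rfl
  have h2 : IsClosedImmersion (pt f).left := by
    rw [h1]
    exact IsClosedImmersion.spec_of_surjective _ hf
  exact Over.mono_of_mono_left _

theorem isIso_pt {A B : Type u} [CommRing A] [Algebra k A] [CommRing B] [Algebra k B] (f : A →ₐ[k] B)
    (hf : Function.Bijective f) : IsIso (pt f) := by
  let E := AlgEquiv.ofBijective f hf
  refine ⟨pt (E.symm : B →ₐ[k] A), ?_, ?_⟩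
  · rw [← pt_comp]
    have h : f.comp (E.symm : B →ₐ[k] A) = AlgHom.id k B := AlgHom.ext fun x ↦ E.apply_symm_apply x
    rw [h]
    exact pt_id
  · rw [← pt_comp]
    have h : (E.symm : B →ₐ[k] A).comp f = AlgHom.id k A := AlgHom.ext fun x ↦ E.symm_apply_apply x
    rw [h]
    exact pt_id

theorem isMonHom_inv {G H : Over (Spec (CommRingCat.of k))} [MonObj G] [MonObj H] (f : G ⟶ H) [IsIso f]
    (h : IsMonHom f) : IsMonHom (inv f) := by
  have h1 : IsMonHom (asIso f).hom := h
  exact (inferInstance : IsMonHom (asIso f).inv)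

/-- A kernel of a finite homomorphism is finite. -/
theorem finiteDimensional_of_isKernel {G H : Over (Spec (CommRingCat.of k))} [GrpObj H] {w : G ⟶ H}
    [hw : IsFinite w.left] {B : Type u} [CommRing B] [Algebra k B] (j : sp k B ⟶ G) (hj : AlgGrp.IsKernel j w) :
    FiniteDimensional k B := by
  have h1 : IsPullback j.left (toUnit (sp k B)).left w.left η[H].left := hj.map (Over.forget _)
  have h2 : IsFinite (toUnit (sp k B)).left := MorphismProperty.of_isPullback h1 hw
  have e : (toUnit (sp k B)).left = Spec.map (CommRingCat.ofHom (algebraMap k B)) := by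
    have h1 : (toUnit (sp k B)).left ≫ 𝟙 _ = Spec.map (CommRingCat.ofHom (algebraMap k B)) := Over.w (toUnit (sp k B))
    rwa [Category.comp_id] at h1
  rw [e] at h2
  exact RingHom.finite_algebraMap.1 ((IsFinite.SpecMap_iff _).1 h2)

/-- The constant group `ℤ/p` as a closed subgroup, from a point of order `p`. -/
theorem exists_sub (p : ℕ) [Fact p.Prime] [NeZero p] (X : Over (Spec (CommRingCat.of k))) [GrpObj X] [IsCommMonObj X]
    [IsProper X.hom] [Smooth X.hom] [GeometricallyConnected X.hom]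
    (P : 𝟙_ (Over (Spec (CommRingCat.of k))) ⟶ X) (h1 : P ≠ 1) (hP : P ^ p = 1) :
    ∃ i : sp k (D k (kZ k p)) ⟶ X, IsMonHom i ∧ Mono i := by
  have gX := K732.AV.geomInt X
  have hp : 1 ≤ p := (Fact.out : p.Prime).one_lt.le
  have hw : IsMonHom ((𝟙 X : X ⟶ X) ^ p) := Groth.Agent.Grpsch.MulFinFlat.isMonHom_id_pow k X p
  have hfin : IsFinite ((𝟙 X : X ⟶ X) ^ p).left :=
    (Groth.Agent.Grpsch.MulFinFlat.isFinite_flat_surjective k X p hp).1
  obtain ⟨H, iH, jH, j, hj, hk⟩ := exists_ker ((𝟙 X : X ⟶ X) ^ p) inferInstance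
  have mo : Mono j := mono_of_isKernel hk
  have hH : FiniteDimensional k H := finiteDimensional_of_isKernel _ hk
  -- the point as a character
  let x : sp k k ⟶ X := toUnit (sp k k) ≫ P
  have hx : x ≫ ((𝟙 X : X ⟶ X) ^ p) = 1 := by
    rw [MonObj.comp_pow, Category.comp_id, ← MonObj.comp_pow, hP, MonObj.comp_one]
  have hx1 : x ≠ 1 := fun h ↦ h1 (by
    have := isIso_toUnit_sp (k := k)
    rw [← cancel_epi (toUnit (sp k k)), MonObj.comp_one]
    exact h)
  obtain ⟨y, hy, -⟩ := ((Groth.Agent.Sga7.H760.KerBc.isKernel_iff j _).1 hk).2 _ x hx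
  let g : WithConv (H →ₐ[k] k) := WithConv.toConv (specPreimage k y)
  have hg : specMap k g.ofConv = y := specMap_specPreimage k y
  have g1 : g ≠ 1 := fun h ↦ hx1 (by
    rw [← hy, ← hg, h, specMap_one, MonObj.one_comp])
  have gp : g ^ p = 1 := by
    apply WithConv.ofConv_injective
    apply specMap_injective k
    rw [K852.Dict.specMap_pow, hg, specMap_one, ← cancel_mono j, MonObj.pow_comp, MonObj.one_comp, hy,
      ← hx, MonObj.comp_pow, Category.comp_id]
  obtain ⟨φ, hφ⟩ := exists_surj p g g1 gp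
  have m1 := isMonHom_pt φ
  have m2 : Mono (pt (φ : H →ₐ[k] D k (kZ k p))) := mono_pt_of_surjective _ hφ
  exact ⟨pt (φ : H →ₐ[k] D k (kZ k p)) ≫ j, inferInstance, inferInstance⟩

/-- **From a point of order `p` to a copy of `μ_p`.** -/
theorem exists_mu (p : ℕ) [Fact p.Prime] (X : Over (Spec (CommRingCat.of k))) [GrpObj X] [IsCommMonObj X]
    [IsProper X.hom] [Smooth X.hom] [GeometricallyConnected X.hom]
    (P : 𝟙_ (Over (Spec (CommRingCat.of k))) ⟶ X) (h1 : P ≠ 1) (hP : P ^ p = 1) :
    ∃ (A : Over (Spec (CommRingCat.of k))) (_ : GrpObj A) (_ : IsCommMonObj A) (_ : IsProper A.hom)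
      (_ : Smooth A.hom) (_ : GeometricallyConnected A.hom)
      (m : Red.DS (Spec (CommRingCat.of k)) (ZMod p) ⟶ A), IsMonHom m ∧ Mono m := by
  have hNe : NeZero p := ⟨(Fact.out : p.Prime).ne_zero⟩
  obtain ⟨i, hi, mi⟩ := exists_sub p X P h1 hP
  have fF : IsFinite (sp k (D k (kZ k p))).hom :=
    (IsFinite.SpecMap_iff _).2 (RingHom.finite_algebraMap.2 inferInstance)
  have flF : Flat (sp k (D k (kZ k p))).hom := Flat.SpecMap_iff.2 (RingHom.flat_algebraMap_iff.2 inferInstance)
  have qc : QuasiCompact i.left := by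
    have : QuasiCompact (i.left ≫ X.hom) := by rw [Over.w]; infer_instance
    exact QuasiCompact.of_comp i.left X.hom
  obtain ⟨Y, gY, f, hf, ff, fs, flfp, hk, sY, flY, smY⟩ := Groth.Agent.S3030.result k (sp k (D k (kZ k p))) X i
    (fun T g n ↦ ⟨n, by rw [mul_inv_cancel_comm]⟩)
  have smY' : Smooth Y.hom := smY inferInstance
  obtain ⟨pY, cY, mY⟩ := isAV_of_surj f
  obtain ⟨Xt, gXt, φX, cXt, dX, pXt, sXt, ccXt, -⟩ := K732.DualField.exists_dual X
  obtain ⟨Yt, gYt, φY, cYt, dY, pYt, sYt, ccYt, -⟩ := K732.DualField.exists_dual Y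
  obtain ⟨ft, hft⟩ := K732.Transp.exists_isTranspose dX dY (K732.AV.hF Y) f
  have mft : IsMonHom ft := K732.Transp.isMonHom_of_isTranspose dX dY (K732.AV.hF Y) hft
  obtain ⟨fft, -⟩ := K732.Isog.isFinite_surjective dX dY f (sp k (D k (kZ k p))) i hk hft
  obtain ⟨B, iB, jB, j, hj, hkj⟩ := exists_ker ft inferInstance
  obtain ⟨e⟩ := K732.KerDual.nonempty_equiv dX dY f (D k (kZ k p)) i hk ft hft B j hkj
  have mj : Mono j := mono_of_isKernel hkj
  have hb : Function.Bijective (CartDual.eval k (kZ k p)) := by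
    have h2 := Module.bijective_dual_eval k (kZ k p)
    constructor
    · intro a b hab
      apply h2.1
      apply LinearMap.ext
      intro x
      exact congrArg (fun t ↦ t.ofConv (WithConv.toConv x)) hab
    · intro z
      obtain ⟨a, ha⟩ := h2.2 (z.ofConv.comp (toDual k (kZ k p)).symm.toLinearMap)
      refine ⟨a, ?_⟩
      apply WithConv.ofConv_injective
      apply LinearMap.ext
      intro x
      exact congrArg (fun t ↦ t x.ofConv) ha
  have m1 := isMonHom_pt (k := k) (A := kZ k p) (B := D k (D k (kZ k p))) (CartDual.eval k (kZ k p))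
  have m2 := isIso_pt (CartDual.eval k (kZ k p) : kZ k p →ₐ[k] D k (D k (kZ k p))) hb
  have m3 := isMonHom_pt (k := k) (A := B) (B := D k (D k (kZ k p))) (e : B →ₐc[k] D k (D k (kZ k p)))
  have m4 := mono_pt_of_surjective ((e : B →ₐc[k] D k (D k (kZ k p))) : B →ₐ[k] D k (D k (kZ k p))) e.surjective
  have m5 : IsMonHom (inv (pt (CartDual.eval k (kZ k p) : kZ k p →ₐ[k] D k (D k (kZ k p))))) := isMonHom_inv _ m1
  refine ⟨Yt, gYt, cYt, pYt, sYt, ccYt,
    (Groth.Agent.Sga3B.DSAff.dsTo k (ZMod p) ≫ inv (pt (CartDual.eval k (kZ k p) : kZ k p →ₐ[k] D k (D k (kZ k p)))) ≫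
      pt ((e : B →ₐc[k] D k (D k (kZ k p))) : B →ₐ[k] D k (D k (kZ k p)))) ≫ j, inferInstance, inferInstance⟩

/-- `μ_p` is the kernel of the `p`-th power map of `𝔾_m`. -/
theorem isKernel_mu (S : Scheme.{u}) (p : ℕ) :
    AlgGrp.IsKernel (Red.DSmap S (Int.castAddHom (ZMod p)) : Red.DS S (ZMod p) ⟶ Red.Gm S) ((𝟙 (Red.Gm S)) ^ p) := by
  apply K751.DSTors.isKernel_DS
  · intro q
    exact ZMod.intCast_surjective q
  · intro m
    change ((p • m : ℤ) : ZMod p) = 0
    simp
  · intro m hm
    obtain ⟨z, hz⟩ := (ZMod.intCast_zmod_eq_zero_iff_dvd m p).mp hm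
    exact ⟨z, by rw [hz]; simp⟩

open Groth.Agent.Sga3B in
theorem isMonHom_DSmap {S : Scheme.{u}} {M N : Type} [AddCommGroup M] [AddCommGroup N] (φ : M →+ N) :
    IsMonHom (Red.DSmap S φ) := by
  apply Pts.isMonHom_of_points
  intro X x y
  rw [← DSPts.dsEquiv_dsChar ((x * y) ≫ Red.DSmap S φ),
    ← DSPts.dsEquiv_dsChar (x ≫ Red.DSmap S φ), ← DSPts.dsEquiv_dsChar (y ≫ Red.DSmap S φ),
    ← map_mul]
  congr 1
  rw [DSPts.dsChar_DSmap, DSPts.dsChar_DSmap, DSPts.dsChar_DSmap, DSPts.dsChar_mul]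
  rfl

/-- The form of `exists_mu` with the kernel of the `p`-th power map. -/
theorem exists_mu' (p : ℕ) [Fact p.Prime] (X : Over (Spec (CommRingCat.of k))) [GrpObj X] [IsCommMonObj X]
    [IsProper X.hom] [Smooth X.hom] [GeometricallyConnected X.hom]
    (P : 𝟙_ (Over (Spec (CommRingCat.of k))) ⟶ X) (h1 : P ≠ 1) (hP : P ^ p = 1) :
    ∃ (A : Over (Spec (CommRingCat.of k))) (_ : GrpObj A) (_ : IsCommMonObj A) (_ : IsProper A.hom)
      (_ : Smooth A.hom) (_ : GeometricallyConnected A.hom) (N : Over (Spec (CommRingCat.of k))) (_ : GrpObj N)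
      (n : N ⟶ Red.Gm (Spec (CommRingCat.of k))) (m : N ⟶ A), IsMonHom n ∧
      AlgGrp.IsKernel n ((𝟙 (Red.Gm (Spec (CommRingCat.of k)))) ^ p) ∧ IsMonHom m ∧ Mono m := by
  obtain ⟨A, g, c, h1, h2, h3, m, hm, mm⟩ := exists_mu p X P h1 hP
  exact ⟨A, g, c, h1, h2, h3, Red.DS _ (ZMod p), inferInstance, Red.DSmap _ (Int.castAddHom (ZMod p)), m, isMonHom_DSmap _,
    isKernel_mu _ p, hm, mm⟩

end K982.MuSub
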